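import Mathlib.Algebra.Homology.HomologySequence
import Mathlib.Algebra.Homology.ShortComplex.ExactFunctor
import Mathlib.Algebra.Homology.HomotopyCategory.Shift

/-! One-sided exactness of neighbouring homology functors of a short exact family of complexes. -/

set_option linter.style.haveILetI false

universe v u v' u'

open CategoryTheory CategoryTheory.Limits

namespace Groth.Agent.KSix54.Exactness

variable {C : Type u} [Category.{v} C] [Abelian C] {B : Type u'} [Category.{v'} B] [Abelian B]
  (G : C ⥤ CochainComplex B ℤ) [G.Additive]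

/-- `H^p` is right exact if and only if `H^(p+1)` is left exact. -/
theorem rightExact_iff_leftExact_succ (hG : ∀ S : ShortComplex C, S.ShortExact → (S.map G).ShortExact)
    (p : ℤ) :
    PreservesFiniteColimits (G ⋙ HomologicalComplex.homologyFunctor B (ComplexShape.up ℤ) p) ↔
      PreservesFiniteLimits (G ⋙ HomologicalComplex.homologyFunctor B (ComplexShape.up ℤ) (p + 1)) := by
  refine Iff.trans (((G ⋙ HomologicalComplex.homologyFunctor B (ComplexShape.up ℤ) p).preservesFiniteColimits_tfae).out 3 0)
    (Iff.trans ?_ (((G ⋙ HomologicalComplex.homologyFunctor B (ComplexShape.up ℤ) (p + 1)).preservesFiniteLimits_tfae).out 0 3))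
  refine forall_congr' fun S => forall_congr' fun hS => ?_
  have h := hG S hS
  have hij : (ComplexShape.up ℤ).Rel p (p + 1) := rfl
  have key : Epi (HomologicalComplex.homologyMap (G.map S.g) p) ↔
      Mono (HomologicalComplex.homologyMap (G.map S.f) (p + 1)) :=
    ((h.homology_exact₃ p (p + 1) hij).epi_f_iff).trans ((h.homology_exact₁ p (p + 1) hij).mono_g_iff).symm
  refine ⟨fun hh => ⟨?_, key.1 hh.2⟩, fun hh => ⟨?_, key.2 hh.2⟩⟩
  · exact h.homology_exact₂ (p + 1)
  · exact h.homology_exact₂ p

end Groth.Agent.KSix54.Exactness
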