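import Groth.Agent.KFlatLib.HomologicalDevissage
import Mathlib.Algebra.Homology.DerivedCategory.HomologySequence
import Mathlib.Algebra.Homology.DerivedCategory.SingleTriangle
import Mathlib.Algebra.Homology.ShortComplex.ExactFunctor

/-! Functors of derived categories carrying exact triangles to exact triangles. -/

set_option linter.style.haveILetI false
set_option backward.isDefEq.respectTransparency false

universe v u v' u' v'' u''

open CategoryTheory CategoryTheory.Limits Pretriangulated ZeroObject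

namespace Groth.Agent.KSix54.Exactness

variable {A : Type u} [Category.{v} A] [Abelian A] [HasDerivedCategory A]
  {B : Type u'} [Category.{v'} B] [Abelian B] [HasDerivedCategory B]
  {C : Type u''} [Category.{v''} C] [Abelian C] [HasDerivedCategory C]

/-- Every exact triangle goes to an exact triangle, for some connecting map. -/
def MapsTriangles (L : DerivedCategory A ⥤ DerivedCategory B) : Prop :=
  ∀ T : Triangle (DerivedCategory A), T ∈ distinguishedTriangles →
    ∃ c, Triangle.mk (L.map T.mor₁) (L.map T.mor₂) c ∈ distinguishedTriangles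

lemma MapsTriangles.comp {L : DerivedCategory A ⥤ DerivedCategory B} (hL : MapsTriangles L)
    {M : DerivedCategory B ⥤ DerivedCategory C} (hM : MapsTriangles M) : MapsTriangles (L ⋙ M) := fun T hT => by
  obtain ⟨c, hc⟩ := hL T hT
  exact hM _ hc

open CochainComplex

/-- A functor computed on resolutions by a functor keeping degreewise split sequences short exact. -/
theorem mapsTriangles_of_split (L : DerivedCategory A ⥤ DerivedCategory B)
    (Good : CochainComplex A ℤ → Prop) (P : CochainComplex A ℤ ⥤ CochainComplex A ℤ) (ψ : P ⟶ 𝟭 _)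
    (hψ : ∀ K, QuasiIso (ψ.app K)) (hP : ∀ K, Good (P.obj K))
    (hcone : ∀ {K L : CochainComplex A ℤ} (φ : K ⟶ L), Good K → Good L → Good (mappingCone φ))
    (hshift : ∀ K : CochainComplex A ℤ, Good K → Good (K⟦(1 : ℤ)⟧))
    (G : CochainComplex A ℤ ⥤ CochainComplex B ℤ) [G.PreservesZeroMorphisms]
    (c : DerivedCategory.Q ⋙ L ⟶ G ⋙ DerivedCategory.Q) (hc : ∀ K, Good K → IsIso (c.app K))
    (hex : ∀ (S : ShortComplex (CochainComplex A ℤ)),
      (∀ n, Nonempty (S.map (HomologicalComplex.eval A _ n)).Splitting) → (S.map G).ShortExact) :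
    MapsTriangles L := fun T hT => by
  obtain ⟨K, L', φ₀, ⟨e⟩⟩ := (DerivedCategory.mem_distTriang_iff _).1 (inv_rot_of_distTriang _ hT)
  haveI : ∀ K, IsIso (DerivedCategory.Q.map (ψ.app K)) := fun K =>
    (DerivedCategory.isIso_Q_map_iff_quasiIso _ _).2 (hψ K)
  let φ := P.map φ₀
  have hK := hP K
  have hL := hP L'
  let eT : DerivedCategory.Q.mapTriangle.obj (mappingCone.triangle φ) ≅ T.invRotate :=
    isoTriangleOfIso₁₂ (DerivedCategory.Q.mapTriangle.obj (mappingCone.triangle φ))
      (DerivedCategory.Q.mapTriangle.obj (mappingCone.triangle φ₀))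
      (DerivedCategory.mappingCone_triangle_distinguished φ)
      (DerivedCategory.mappingCone_triangle_distinguished φ₀)
      (asIso (DerivedCategory.Q.map (ψ.app K))) (asIso (DerivedCategory.Q.map (ψ.app L')))
      ((DerivedCategory.Q.map_comp _ _).symm.trans ((congrArg DerivedCategory.Q.map (ψ.naturality φ₀)).trans
        (DerivedCategory.Q.map_comp _ _))) ≪≫ e.symm
  let E : T ≅ DerivedCategory.Q.mapTriangle.obj (mappingCone.triangle φ).rotate :=
    (triangleRotation _).counitIso.symm.app T ≪≫ (rotate _).mapIso eT.symm ≪≫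
    DerivedCategory.Q.mapTriangleRotateIso.app _
  let S := mappingCone.triangleRotateShortComplex φ
  have hS := hex S fun n => ⟨mappingCone.triangleRotateShortComplexSplitting φ n⟩
  haveI := hc S.X₁ hL
  haveI := hc S.X₂ (hcone φ hK hL)
  haveI := hc S.X₃ (hshift _ hK)
  let T₀ := DerivedCategory.triangleOfSES hS
  let i₁ : L.obj T.obj₁ ≅ T₀.obj₁ := L.mapIso (Triangle.π₁.mapIso E) ≪≫ asIso (c.app S.X₁)
  let i₂ : L.obj T.obj₂ ≅ T₀.obj₂ := L.mapIso (Triangle.π₂.mapIso E) ≪≫ asIso (c.app S.X₂)
  let i₃ : L.obj T.obj₃ ≅ T₀.obj₃ := L.mapIso (Triangle.π₃.mapIso E) ≪≫ asIso (c.app S.X₃)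
  refine ⟨i₃.hom ≫ T₀.mor₃ ≫ i₁.inv⟦(1 : ℤ)⟧', isomorphic_distinguished _
    (DerivedCategory.triangleOfSES_distinguished hS) _ (Triangle.isoMk _ _ i₁ i₂ i₃ ?_ ?_ ?_)⟩
  · have h1 : T.mor₁ ≫ E.hom.hom₂ = E.hom.hom₁ ≫ DerivedCategory.Q.map S.f := E.hom.comm₁
    show L.map T.mor₁ ≫ L.map E.hom.hom₂ ≫ c.app S.X₂ =
      (L.map E.hom.hom₁ ≫ c.app S.X₁) ≫ DerivedCategory.Q.map (G.map S.f)
    rw [← Category.assoc, ← L.map_comp, h1, L.map_comp, Category.assoc, Category.assoc]
    exact congrArg (L.map E.hom.hom₁ ≫ ·) (c.naturality S.f)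
  · have h2 : T.mor₂ ≫ E.hom.hom₃ = E.hom.hom₂ ≫ DerivedCategory.Q.map S.g := E.hom.comm₂
    show L.map T.mor₂ ≫ L.map E.hom.hom₃ ≫ c.app S.X₃ =
      (L.map E.hom.hom₂ ≫ c.app S.X₂) ≫ DerivedCategory.Q.map (G.map S.g)
    rw [← Category.assoc, ← L.map_comp, h2, L.map_comp, Category.assoc, Category.assoc]
    exact congrArg (L.map E.hom.hom₂ ≫ ·) (c.naturality S.g)
  · show (i₃.hom ≫ T₀.mor₃ ≫ i₁.inv⟦(1 : ℤ)⟧') ≫ i₁.hom⟦(1 : ℤ)⟧' = i₃.hom ≫ T₀.mor₃
    rw [Category.assoc, Category.assoc, ← Functor.map_comp, Iso.inv_hom_id, CategoryTheory.Functor.map_id,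
      Category.comp_id]

/-- Triangle-preserving functors kill zero maps. -/
lemma MapsTriangles.preservesZeroMorphisms {L : DerivedCategory A ⥤ DerivedCategory B}
    (hL : MapsTriangles L) : L.PreservesZeroMorphisms := by
  have hz : IsZero (0 : DerivedCategory A) := isZero_zero _
  obtain ⟨c, hc⟩ := hL (contractibleTriangle (0 : DerivedCategory A)) (contractible_distinguished _)
  have h0 := comp_distTriang_mor_zero₁₂ _ hc
  change L.map (contractibleTriangle (0 : DerivedCategory A)).mor₁ ≫
    L.map (contractibleTriangle (0 : DerivedCategory A)).mor₂ = 0 at h0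
  haveI : Epi (L.map (contractibleTriangle (0 : DerivedCategory A)).mor₁) :=
    inferInstanceAs (Epi (L.map (𝟙 (0 : DerivedCategory A))))
  haveI : Mono (L.map (contractibleTriangle (0 : DerivedCategory A)).mor₂) := by
    haveI : IsIso (contractibleTriangle (0 : DerivedCategory A)).mor₂ :=
      isIso_of_source_target_iso_zero _ hz.isoZero (IsZero.isoZero (isZero_zero _))
    infer_instance
  have h1 : L.map (contractibleTriangle (0 : DerivedCategory A)).mor₁ = 0 := zero_of_comp_mono _ h0
  have h2 : L.map (𝟙 (0 : DerivedCategory A)) = 0 := h1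
  refine Functor.preservesZeroMorphisms_of_map_zero_object (IsZero.isoZero ?_)
  rw [IsZero.iff_id_eq_zero, ← L.map_id, h2]

/-- A functor exact in the middle is additive. -/
lemma additive_of_middleExact {M : Type*} [Category M] [Abelian M] {N : Type*} [Category N] [Abelian N]
    (F : M ⥤ N) [F.PreservesZeroMorphisms]
    (h : ∀ S : ShortComplex M, S.ShortExact → (S.map F).Exact) : F.Additive := by
  haveI : PreservesBinaryBiproducts F := ⟨fun {X Y} => by
    haveI : Mono (Functor.biprodComparison F X Y) := by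
      refine Preadditive.mono_of_cancel_zero _ fun {W} k hk => ?_
      have h1 : k ≫ F.map biprod.fst = 0 := by
        rw [← Functor.biprodComparison_fst F X Y, ← Category.assoc, hk, zero_comp]
      have h2 : k ≫ F.map biprod.snd = 0 := by
        rw [← Functor.biprodComparison_snd F X Y, ← Category.assoc, hk, zero_comp]
      let sp : (ShortComplex.mk (biprod.inl : X ⟶ X ⊞ Y) biprod.snd biprod.inl_snd).Splitting :=
        ShortComplex.Splitting.ofHasBinaryBiproduct X Y
      have hS := h _ sp.shortExact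
      haveI : IsSplitMono (F.map (biprod.inl : X ⟶ X ⊞ Y)) :=
        IsSplitMono.mk' ⟨F.map biprod.fst, by rw [← F.map_comp, biprod.inl_fst, F.map_id]⟩
      haveI : Mono ((ShortComplex.mk (biprod.inl : X ⟶ X ⊞ Y) biprod.snd biprod.inl_snd).map F).f :=
        inferInstanceAs (Mono (F.map (biprod.inl : X ⟶ X ⊞ Y)))
      let l := hS.lift k h2
      have hl : l ≫ F.map (biprod.inl : X ⟶ X ⊞ Y) = k := hS.lift_f k h2
      have hl0 : l = 0 := by
        have h3 := congrArg (· ≫ F.map (biprod.fst : X ⊞ Y ⟶ X)) hl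
        simp only [Category.assoc, ← F.map_comp, biprod.inl_fst, F.map_id, h1] at h3
        exact (Category.comp_id l).symm.trans h3
      rw [← hl, hl0, zero_comp]
    exact preservesBinaryBiproduct_of_mono_biprodComparison F⟩
  exact Functor.additive_of_preservesBinaryBiproducts F

/-- Right exactness in degree `p` is left exactness in degree `p + 1`. -/
theorem rightExact_iff_leftExact_of_mapsTriangles {M : Type*} [Category M] [Abelian M]
    (ι : M ⥤ A) [ι.Additive] [PreservesFiniteLimits ι] [PreservesFiniteColimits ι]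
    {L : DerivedCategory A ⥤ DerivedCategory B} (hL : MapsTriangles L) (p : ℤ) :
    PreservesFiniteColimits (ι ⋙ DerivedCategory.singleFunctor A 0 ⋙ L ⋙ DerivedCategory.homologyFunctor B p) ↔
      PreservesFiniteLimits (ι ⋙ DerivedCategory.singleFunctor A 0 ⋙ L ⋙ DerivedCategory.homologyFunctor B (p + 1)) := by
  haveI := hL.preservesZeroMorphisms
  have hmid : ∀ (n : ℤ) (S : ShortComplex M), S.ShortExact →
      (S.map (ι ⋙ DerivedCategory.singleFunctor A 0 ⋙ L ⋙ DerivedCategory.homologyFunctor B n)).Exact := by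
    intro n S hS
    obtain ⟨c, hc⟩ := hL _ (hS.map_of_exact ι).singleTriangle_distinguished
    exact (DerivedCategory.homologyFunctor B n).map_distinguished_exact _ hc
  haveI := fun n => additive_of_middleExact _ (hmid n)
  refine Iff.trans ((Functor.preservesFiniteColimits_tfae
    (ι ⋙ DerivedCategory.singleFunctor A 0 ⋙ L ⋙ DerivedCategory.homologyFunctor B p)).out 3 0)
    (Iff.trans ?_ ((Functor.preservesFiniteLimits_tfae
      (ι ⋙ DerivedCategory.singleFunctor A 0 ⋙ L ⋙ DerivedCategory.homologyFunctor B (p + 1))).out 0 3))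
  refine forall_congr' fun S => forall_congr' fun hS => ?_
  obtain ⟨c, hc⟩ := hL _ (hS.map_of_exact ι).singleTriangle_distinguished
  have key : Epi ((DerivedCategory.homologyFunctor B p).map (L.map (hS.map_of_exact ι).singleTriangle.mor₂)) ↔
      Mono ((DerivedCategory.homologyFunctor B (p + 1)).map (L.map (hS.map_of_exact ι).singleTriangle.mor₁)) :=
    (DerivedCategory.HomologySequence.epi_homologyMap_mor₂_iff _ hc p (p + 1) rfl).trans
      (DerivedCategory.HomologySequence.mono_homologyMap_mor₁_iff _ hc p (p + 1) rfl).symm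
  exact ⟨fun hh => ⟨hmid (p + 1) S hS, key.1 hh.2⟩, fun hh => ⟨hmid p S hS, key.2 hh.2⟩⟩

end Groth.Agent.KSix54.Exactness
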