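import Groth.Agent.KSix54.Exactness.Generic

/-! Left exactness of homology and opcycles. -/

set_option linter.style.haveILetI false

universe v u v' u'

open CategoryTheory CategoryTheory.Limits

namespace Groth.Agent.KSix54.Exactness

variable {C : Type u} [Category.{v} C] [Abelian C] {B : Type u'} [Category.{v'} B] [Abelian B]
  (G : C ⥤ CochainComplex B ℤ) [G.Additive]

/-- `H^n` is left exact if and only if the opcycles in degree `n` keep monomorphisms. -/
theorem leftExact_iff_mono_opcycles (hG : ∀ S : ShortComplex C, S.ShortExact → (S.map G).ShortExact) (n : ℤ) :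
    PreservesFiniteLimits (G ⋙ HomologicalComplex.homologyFunctor B (ComplexShape.up ℤ) n) ↔
      ∀ S : ShortComplex C, S.ShortExact → Mono (HomologicalComplex.opcyclesMap (G.map S.f) n) := by
  refine Iff.trans
    (((G ⋙ HomologicalComplex.homologyFunctor B (ComplexShape.up ℤ) n).preservesFiniteLimits_tfae).out 3 0) ?_
  refine forall_congr' fun S => forall_congr' fun hS => ?_
  have h := hG S hS
  let K := G.obj S.X₁
  let L := G.obj S.X₂
  let φ : K ⟶ L := G.map S.f
  have hnext : (ComplexShape.up ℤ).next n = n + 1 := CochainComplex.next ℤ n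
  constructor
  · intro hh
    have hm : Mono (HomologicalComplex.homologyMap φ n) := hh.2
    haveI : Mono (φ.f (n + 1)) := by
      haveI : Mono φ := h.mono_f
      exact inferInstanceAs (Mono ((HomologicalComplex.eval B (ComplexShape.up ℤ) (n + 1)).map φ))
    refine Preadditive.mono_of_cancel_zero _ fun {A} k hk => ?_
    have hk' : k ≫ K.fromOpcycles n (n + 1) = 0 := by
      rw [← cancel_mono (φ.f (n + 1)), Category.assoc, zero_comp]
      have hc : K.fromOpcycles n (n + 1) ≫ φ.f (n + 1) =
          HomologicalComplex.opcyclesMap φ n ≫ L.fromOpcycles n (n + 1) := by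
        rw [← cancel_epi (K.pOpcycles n)]
        simp
      rw [hc, ← Category.assoc, hk, zero_comp]
    obtain ⟨l, hl⟩ := KernelFork.IsLimit.lift' (K.homologyIsKernel n (n + 1) hnext) k hk'
    dsimp at hl
    have hl0 : l ≫ HomologicalComplex.homologyMap φ n = 0 := by
      rw [← cancel_mono (L.homologyι n), Category.assoc, zero_comp, HomologicalComplex.homologyι_naturality,
        ← Category.assoc, hl, hk]
    rw [← hl, (cancel_mono (HomologicalComplex.homologyMap φ n)).1 (hl0.trans zero_comp.symm), zero_comp]
  · intro hm
    haveI : Mono (HomologicalComplex.opcyclesMap φ n) := hm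
    refine ⟨h.homology_exact₂ n, ?_⟩
    haveI : Mono (HomologicalComplex.homologyMap φ n ≫ L.homologyι n) := by
      rw [HomologicalComplex.homologyι_naturality]; infer_instance
    exact mono_of_mono (HomologicalComplex.homologyMap φ n) (L.homologyι n)

end Groth.Agent.KSix54.Exactness
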