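import Groth.Agent.KSix54.Exactness.MapsTriangles
import Groth.Agent.KFlatLib.Scheme.RpushTriangle
import Groth.Agent.KFlatLib.Scheme.LpullComp
import Groth.Agent.Perf52.LTensorBound
import Groth.Agent.QCohAb92.Abelian

/-! Exactness of `M ↦ H^p Rf_*(Lf^*M ⊗^L F)` in neighbouring degrees. -/

set_option linter.style.haveILetI false
set_option backward.isDefEq.respectTransparency false

universe u

open CategoryTheory CategoryTheory.Limits AlgebraicGeometry

attribute [local instance] HasDerivedCategory.standard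

namespace Groth.Agent.KSix54.Exactness

open Groth.Agent.KFlatLib

variable {X Y : Scheme.{u}}

lemma mapsTriangles_rpush (f : X ⟶ Y) [DCoh.HasRpush f] : MapsTriangles (DCoh.Rpush f) :=
  fun T hT => exists_rpush_triangle f T hT

lemma mapsTriangles_lpull (f : X ⟶ Y) [DCoh.HasLpull f] : MapsTriangles (DCoh.Lpull f) :=
  mapsTriangles_of_split _ DCoh.IsKFlat (kRes Y) (flatCover Y).ψ
    (fun K => (flatCover Y).quasiIso_ψ K) isKFlat_kRes
    (fun φ hK hL => kFlat_cone (T := DCoh.tensorBi) φ hK hL)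
    (fun K hK => KFlat.shift (T := DCoh.tensorBi) hK 1) (pullCx f) (lpullComparison f)
    (fun K hK => isIso_lpullComparison f hK)
    fun S hS => HomologicalComplex.shortExact_of_degreewise_shortExact _ fun n =>
      ((hS n).some.map (Scheme.Modules.pullback f)).shortExact

lemma mapsTriangles_ltensor (K : CochainComplex X.Modules ℤ) [DCoh.HasLTensorCx K] :
    MapsTriangles (DCoh.LTensorCx K) :=
  mapsTriangles_of_split _ DCoh.IsKFlat (kRes X) (flatCover X).ψ
    (fun L => (flatCover X).quasiIso_ψ L) isKFlat_kRes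
    (fun φ hK hL => kFlat_cone (T := DCoh.tensorBi) φ hK hL)
    (fun L hL => KFlat.shift (T := DCoh.tensorBi) hL 1) (DCoh.tensorCx.flip.obj K)
    ((DCoh.tensorCxQ K).totalLeftDerivedCounit DerivedCategory.Q (qisX X))
    (fun L hL => isIso_LTensorCx_counit K hL)
    fun S hS => shortExact₁_of_splitting K S hS

/-- Right exactness in degree `p` is left exactness in degree `p + 1`. -/
theorem rightExact_iff_leftExact_push (f : X ⟶ Y) (F : CochainComplex X.Modules ℤ) (p : ℤ)
    [DCoh.HasLpull f] [DCoh.HasLTensorCx F] [DCoh.HasRpush f] :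
    PreservesFiniteColimits ((QCohCat.isQCoh Y).ι ⋙ DerivedCategory.singleFunctor Y.Modules 0 ⋙ DCoh.Lpull f ⋙
        DCoh.LTensorCx F ⋙ DCoh.Rpush f ⋙ DerivedCategory.homologyFunctor Y.Modules p) ↔
      PreservesFiniteLimits ((QCohCat.isQCoh Y).ι ⋙ DerivedCategory.singleFunctor Y.Modules 0 ⋙ DCoh.Lpull f ⋙
        DCoh.LTensorCx F ⋙ DCoh.Rpush f ⋙ DerivedCategory.homologyFunctor Y.Modules (p + 1)) :=
  rightExact_iff_leftExact_of_mapsTriangles (QCohCat.isQCoh Y).ι
    (L := DCoh.Lpull f ⋙ DCoh.LTensorCx F ⋙ DCoh.Rpush f)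
    ((mapsTriangles_lpull f).comp ((mapsTriangles_ltensor F).comp (mapsTriangles_rpush f))) p

end Groth.Agent.KSix54.Exactness
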