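import Groth.Agent.KSix54.Exactness.Generic
import Groth.Agent.H9Misc.TensorLinear

/-! Cohomology of a derived tensor product with a module on a ringed site. -/

set_option linter.style.haveILetI false

universe u

open CategoryTheory CategoryTheory.Limits Opposite

attribute [local instance] HasDerivedCategory.standard

namespace Groth.Agent.KSix54.Exactness

open Groth.Agent.H9Misc

variable {C : Type u} [SmallCategory C] {J : GrothendieckTopology C} {O : Sheaf J CommRingCat.{u}}

/-- The functor `M ↦ M[0] ⊗ P`. -/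
noncomputable abbrev modTensor (P : CochainComplex (ModSite.Mod O) ℤ) :
    ModSite.Mod O ⥤ CochainComplex (ModSite.Mod O) ℤ :=
  HomologicalComplex.single (ModSite.Mod O) (ComplexShape.up ℤ) 0 ⋙ (ModSite.tensorCx O).flip.obj P

/-- Tensoring modules with a complex of flat modules keeps short exact sequences. -/
theorem shortExact_modTensor {P : CochainComplex (ModSite.Mod O) ℤ} (hP : ∀ n, ModSite.IsFlat (P.X n))
    (S : ShortComplex (ModSite.Mod O)) (hS : S.ShortExact) : (S.map (modTensor P)).ShortExact := by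
  refine KFlatLib.shortExact₁ (ModSite.tensorBi O) P (S.map (HomologicalComplex.single _ (ComplexShape.up ℤ) 0))
    fun p q => ?_
  refine (ModTensor.isFlat_iff_flatObj _).1 (hP q) _ ?_
  haveI : PreservesFiniteLimits (HomologicalComplex.single (ModSite.Mod O) (ComplexShape.up ℤ) 0) := inferInstance
  haveI : PreservesFiniteColimits (HomologicalComplex.single (ModSite.Mod O) (ComplexShape.up ℤ) 0) := inferInstance
  exact (hS.map_of_exact (HomologicalComplex.single (ModSite.Mod O) (ComplexShape.up ℤ) 0)).map_of_exact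
    (HomologicalComplex.eval _ _ p)

/-- Any K-flat resolution of the fixed factor computes `- ⊗^L E`. -/
theorem nonempty_ltensor_iso (E : CochainComplex (ModSite.Mod O) ℤ) [ModSite.HasLTensorCx E]
    {P : CochainComplex (ModSite.Mod O) ℤ} (τ : P ⟶ E) [QuasiIso τ] (hP : ModSite.IsKFlat P) :
    Nonempty (DerivedCategory.Q ⋙ ModSite.LTensorCx E ≅
      (ModSite.tensorCx O).flip.obj P ⋙ DerivedCategory.Q) := by
  let W := HomologicalComplex.quasiIso (ModSite.Mod O) (ComplexShape.up ℤ)
  let c := (ModSite.tensorCxQ E).totalLeftDerivedCounit DerivedCategory.Q W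
  let R := (ModTensor.flatCover O).P
  let ψ := (ModTensor.flatCover O).ψ
  have hR : ∀ K, ModSite.IsKFlat (R.obj K) := fun K =>
    ModTensor.kFlat_iff_isKFlat.1 ((ModTensor.flatCover O).kFlat_P ModTensor.flatObj_flatCover K)
  have hψ : ∀ K, QuasiIso (ψ.app K) := fun K => (ModTensor.flatCover O).quasiIso_ψ K
  haveI : ∀ K, IsIso ((Functor.whiskerRight ψ (DerivedCategory.Q ⋙ ModSite.LTensorCx E)).app K) := fun K => by
    haveI := (DerivedCategory.isIso_Q_map_iff_quasiIso (C := ModSite.Mod O) (ψ.app K)).2 (hψ K)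
    exact inferInstanceAs (IsIso ((ModSite.LTensorCx E).map (DerivedCategory.Q.map (ψ.app K))))
  haveI : ∀ K, IsIso ((Functor.whiskerLeft R c).app K) := fun K => TensorLinear.isIso_counit E (hR K)
  haveI : ∀ K, IsIso ((Functor.whiskerLeft R
      (Functor.whiskerRight ((ModSite.tensorCx O).flip.map τ) DerivedCategory.Q)).app K) := fun K => by
    refine (DerivedCategory.isIso_Q_map_iff_quasiIso _ _).2 ?_
    exact KFlatLib.KFlat.quasiIso_map' (ModTensor.tensorFlipIso O) (hR K) τ
  haveI : ∀ K, IsIso ((Functor.whiskerRight ψ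
      ((ModSite.tensorCx O).flip.obj P ⋙ DerivedCategory.Q)).app K) := fun K => by
    refine (DerivedCategory.isIso_Q_map_iff_quasiIso _ _).2 ?_
    haveI := hψ K
    exact KFlatLib.KFlat.quasiIso_map hP (ψ.app K)
  haveI := NatIso.isIso_of_isIso_app (Functor.whiskerRight ψ (DerivedCategory.Q ⋙ ModSite.LTensorCx E))
  haveI := NatIso.isIso_of_isIso_app (Functor.whiskerLeft R c)
  haveI := NatIso.isIso_of_isIso_app (Functor.whiskerLeft R
      (Functor.whiskerRight ((ModSite.tensorCx O).flip.map τ) DerivedCategory.Q))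
  haveI := NatIso.isIso_of_isIso_app (Functor.whiskerRight ψ
      ((ModSite.tensorCx O).flip.obj P ⋙ DerivedCategory.Q))
  exact ⟨(Functor.leftUnitor _).symm ≪≫
    (asIso (Functor.whiskerRight ψ (DerivedCategory.Q ⋙ ModSite.LTensorCx E))).symm ≪≫
    asIso (Functor.whiskerLeft R c) ≪≫
    (asIso (Functor.whiskerLeft R
      (Functor.whiskerRight ((ModSite.tensorCx O).flip.map τ) DerivedCategory.Q))).symm ≪≫
    asIso (Functor.whiskerRight ψ ((ModSite.tensorCx O).flip.obj P ⋙ DerivedCategory.Q)) ≪≫
    Functor.leftUnitor _⟩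

/-- `H^n(M ⊗^L E)` is the cohomology of `M[0] ⊗ P`. -/
theorem nonempty_homology_ltensor_iso (E : CochainComplex (ModSite.Mod O) ℤ) [ModSite.HasLTensorCx E]
    {P : CochainComplex (ModSite.Mod O) ℤ} (τ : P ⟶ E) [QuasiIso τ] (hP : ModSite.IsKFlat P) (n : ℤ) :
    Nonempty (DerivedCategory.singleFunctor (ModSite.Mod O) 0 ⋙ ModSite.LTensorCx E ⋙
        DerivedCategory.homologyFunctor (ModSite.Mod O) n ≅
      modTensor P ⋙ HomologicalComplex.homologyFunctor (ModSite.Mod O) (ComplexShape.up ℤ) n) := by
  obtain ⟨e⟩ := nonempty_ltensor_iso E τ hP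
  refine ⟨Functor.isoWhiskerRight (DerivedCategory.singleFunctorIsoCompQ (ModSite.Mod O) 0) _ ≪≫
    Functor.associator _ _ _ ≪≫ Functor.isoWhiskerLeft _ ((Functor.associator _ _ _).symm ≪≫
      Functor.isoWhiskerRight e _ ≪≫ Functor.associator _ _ _ ≪≫
      Functor.isoWhiskerLeft _ (DerivedCategory.homologyFunctorFactors (ModSite.Mod O) n)) ≪≫
    (Functor.associator _ _ _).symm⟩

/-- Right exactness in degree `p` is left exactness in degree `p + 1`. -/
theorem rightExact_iff_leftExact_site (E : CochainComplex (ModSite.Mod O) ℤ) (p : ℤ)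
    [ModSite.HasLTensorCx E] :
    PreservesFiniteColimits (DerivedCategory.singleFunctor (ModSite.Mod O) 0 ⋙ ModSite.LTensorCx E ⋙
        DerivedCategory.homologyFunctor (ModSite.Mod O) p) ↔
      PreservesFiniteLimits (DerivedCategory.singleFunctor (ModSite.Mod O) 0 ⋙ ModSite.LTensorCx E ⋙
        DerivedCategory.homologyFunctor (ModSite.Mod O) (p + 1)) := by
  obtain ⟨P, τ, hP, hfl, hτ, -⟩ := ModTensor.exists_resolution E
  haveI := hτ
  obtain ⟨e₀⟩ := nonempty_homology_ltensor_iso E τ hP p
  obtain ⟨e₁⟩ := nonempty_homology_ltensor_iso E τ hP (p + 1)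
  have h := rightExact_iff_leftExact_succ (modTensor P) (shortExact_modTensor hfl) p
  exact ⟨fun hc => haveI := h.1 (preservesFiniteColimits_of_natIso e₀); preservesFiniteLimits_of_natIso e₁.symm,
    fun hl => haveI := h.2 (preservesFiniteLimits_of_natIso e₁); preservesFiniteColimits_of_natIso e₀.symm⟩

end Groth.Agent.KSix54.Exactness
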