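import Groth.Agent.KFlatLib.SingleIso

/-! `M[0] ⊗ P` is `M ⊗ P` termwise, naturally in `M`. -/

set_option linter.style.haveILetI false

universe v u

open CategoryTheory CategoryTheory.Limits

namespace Groth.Agent.KSix54.Exactness

open Groth.Agent.KFlatLib

variable {C : Type u} [Category.{v} C] [Abelian C] [∀ S : Type, HasColimitsOfShape (Discrete S) C]
  (T : C ⥤ C ⥤ C) [T.Additive] [∀ Y, (T.obj Y).Additive] (P : CochainComplex C ℤ)

/-- `M ↦ M ⊗ P` termwise. -/
noncomputable def termT : C ⥤ CochainComplex C ℤ where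
  obj M := ((T.obj M).mapHomologicalComplex (ComplexShape.up ℤ)).obj P
  map f := (NatTrans.mapHomologicalComplex (T.map f) (ComplexShape.up ℤ)).app P
  map_id M := by ext n; simp
  map_comp f g := by ext n; simp

instance : (termT T P).Additive where
  map_add {M M' f g} := by
    ext n
    change (T.map (f + g)).app (P.X n) = (T.map f).app (P.X n) + (T.map g).app (P.X n)
    simp

/-- The comparison `M ⊗ P^n ⟶ (M[0] ⊗ P)^n`. -/
noncomputable def summandL (M : C) (n : ℤ) : (T.obj M).obj (P.X n) ⟶
    (HomologicalComplex.mapBifunctor ((HomologicalComplex.single C (ComplexShape.up ℤ) 0).obj M) P T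
      (ComplexShape.up ℤ)).X n :=
  (T.map (HomologicalComplex.singleObjXSelf (ComplexShape.up ℤ) 0 M).inv).app (P.X n) ≫
    HomologicalComplex.ιMapBifunctor _ P T (ComplexShape.up ℤ) 0 n n (zero_add n)

lemma summandL_natural {M M' : C} (f : M ⟶ M') (n : ℤ) :
    summandL T P M n ≫ (HomologicalComplex.mapBifunctorMap
      ((HomologicalComplex.single C (ComplexShape.up ℤ) 0).map f) (𝟙 P) T (ComplexShape.up ℤ)).f n =
      (T.map f).app (P.X n) ≫ summandL T P M' n := by
  simp only [summandL, Category.assoc, HomologicalComplex.ι_mapBifunctorMap, HomologicalComplex.id_f,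
    CategoryTheory.Functor.map_id, Category.id_comp]
  rw [← NatTrans.comp_app_assoc, ← NatTrans.comp_app_assoc, ← T.map_comp, ← T.map_comp]
  simp [HomologicalComplex.single_map_f_self]

instance isIso_summandL (M : C) (n : ℤ) : IsIso (summandL T P M n) := by
  let L := (HomologicalComplex.single C (ComplexShape.up ℤ) 0).obj M
  let e := HomologicalComplex.mapBifunctorFlipIso L P T (ComplexShape.up ℤ)
  haveI := isIso_singleSummand (T := T.flip) P M 0 n n (add_zero n)
  have h : singleSummand (T := T.flip) P M 0 n n (add_zero n) ≫ e.hom.f n = summandL T P M n := by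
    simp [singleSummand, summandL, e, L]
  rw [← h]
  infer_instance

/-- `M[0] ⊗ P ≅ M ⊗ P`. -/
noncomputable def singleTermIso :
    HomologicalComplex.single C (ComplexShape.up ℤ) 0 ⋙ T.map₂CochainComplex.flip.obj P ≅ termT T P := by
  refine (NatIso.ofComponents (fun M => HomologicalComplex.Hom.isoOfComponents
      (fun n => @asIso _ _ _ _ (summandL T P M n) (isIso_summandL T P M n)) fun i j hij => ?_) (fun {M M'} f => ?_)).symm
  · change i + 1 = j at hij
    subst hij
    change summandL T P M i ≫ (HomologicalComplex.mapBifunctor _ P T (ComplexShape.up ℤ)).d i (i + 1) =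
      (T.obj M).map (P.d i (i + 1)) ≫ summandL T P M (i + 1)
    simp only [summandL, Category.assoc]
    rw [HomologicalComplex.mapBifunctor.d_eq, Preadditive.comp_add, HomologicalComplex.mapBifunctor.ι_D₁,
      HomologicalComplex.mapBifunctor.ι_D₂]
    rw [HomologicalComplex.mapBifunctor.d₂_eq _ _ _ _ 0 (rfl : (ComplexShape.up ℤ).Rel i (i + 1)) (i + 1)
      (zero_add (i + 1))]
    rw [HomologicalComplex.mapBifunctor.d₁_eq' _ _ _ _ (rfl : (ComplexShape.up ℤ).Rel (0 : ℤ) (0 + 1))]
    simp [← NatTrans.naturality_assoc]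
  · ext n
    exact (summandL_natural T P f n).symm

end Groth.Agent.KSix54.Exactness
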