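import Groth.Agent.KSix54.Exactness.Site
import Groth.Agent.KSix54.Exactness.Opcycles
import Groth.Agent.KSix54.Exactness.TermTensor
import Groth.Agent.ModTensor.Colimits

/-! Right exactness and flatness of the cokernel of a differential. -/

set_option linter.style.haveILetI false

universe u

open CategoryTheory CategoryTheory.Limits Opposite HomologicalComplex

attribute [local instance] HasDerivedCategory.standard

namespace Groth.Agent.KSix54.Exactness

open Groth.Agent.KFlatLib

variable {C : Type u} [SmallCategory C] {J : GrothendieckTopology C} {O : Sheaf J CommRingCat.{u}}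
  (P : CochainComplex (ModSite.Mod O) ℤ)

/-- `M ↦ M ⊗ P` termwise. -/
noncomputable abbrev termTensor : ModSite.Mod O ⥤ CochainComplex (ModSite.Mod O) ℤ :=
  termT (ModSite.tensorBi O) P

/-- `M[0] ⊗ P` is `M ⊗ P` termwise. -/
noncomputable def modTensorIso : modTensor P ≅ termTensor P :=
  singleTermIso (ModSite.tensorBi O) P

/-- Opcycles of `M ⊗ P`. -/
noncomputable def termOpcyclesIso (p : ℤ) (M : ModSite.Mod O) :
    ((termTensor P).obj M).opcycles (p + 1) ≅
      ((ModSite.tensorBi O).obj M).obj (cokernel (P.d p (p + 1))) :=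
  haveI : PreservesColimitsOfSize.{0, 0} ((ModSite.tensorBi O).obj M) :=
    preservesColimitsOfSize_shrink.{0, u, 0, u} _
  IsColimit.coconePointUniqueUpToIso
    (((termTensor P).obj M).opcyclesIsCokernel p (p + 1) ((ComplexShape.up ℤ).prev_eq' rfl))
    (CokernelCofork.mapIsColimit _ (cokernelIsCokernel (P.d p (p + 1))) ((ModSite.tensorBi O).obj M))

lemma termOpcyclesIso_naturality (p : ℤ) {M M' : ModSite.Mod O} (f : M ⟶ M') :
    HomologicalComplex.opcyclesMap ((termTensor P).map f) (p + 1) ≫ (termOpcyclesIso P p M').hom =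
      (termOpcyclesIso P p M).hom ≫ ((ModSite.tensorBi O).map f).app _ := by
  have key : ∀ N, ((termTensor P).obj N).pOpcycles (p + 1) ≫ (termOpcyclesIso P p N).hom =
      ((ModSite.tensorBi O).obj N).map (cokernel.π (P.d p (p + 1))) := fun N => by
    haveI : PreservesColimitsOfSize.{0, 0} ((ModSite.tensorBi O).obj N) :=
      preservesColimitsOfSize_shrink.{0, u, 0, u} _
    exact IsColimit.comp_coconePointUniqueUpToIso_hom
      (((termTensor P).obj N).opcyclesIsCokernel p (p + 1) ((ComplexShape.up ℤ).prev_eq' rfl))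
      (CokernelCofork.mapIsColimit _ (cokernelIsCokernel (P.d p (p + 1))) ((ModSite.tensorBi O).obj N))
      WalkingParallelPair.one
  rw [← cancel_epi (((termTensor P).obj M).pOpcycles (p + 1)), HomologicalComplex.p_opcyclesMap_assoc,
    key, ← Category.assoc (((termTensor P).obj M).pOpcycles (p + 1)), key]
  exact (((ModSite.tensorBi O).map f).naturality _).symm

/-- Right exactness in degree `p` is flatness of the cokernel of `d^p`. -/
theorem rightExact_iff_flat_cokernel (e : ℤ) (hb : ∀ i, e < i → IsZero (P.X i))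
    (hf : ∀ i, ModSite.IsFlat (P.X i)) (p : ℤ) [ModSite.HasLTensorCx P] :
    PreservesFiniteColimits (DerivedCategory.singleFunctor (ModSite.Mod O) 0 ⋙ ModSite.LTensorCx P ⋙
        DerivedCategory.homologyFunctor (ModSite.Mod O) p) ↔
      ModSite.IsFlat (cokernel (P.d p (p + 1))) := by
  haveI : P.IsStrictlyLE e := (CochainComplex.isStrictlyLE_iff _ _).2 hb
  have hK := ModTensor.isKFlat_of_isStrictlyLE P e hf
  obtain ⟨e₁⟩ := nonempty_homology_ltensor_iso P (𝟙 P) hK (p + 1)
  let e₂ := e₁ ≪≫ Functor.isoWhiskerRight (modTensorIso P) _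
  have hG : ∀ S : ShortComplex (ModSite.Mod O), S.ShortExact → (S.map (termTensor P)).ShortExact :=
    fun S hS => ShortComplex.shortExact_of_iso (S.mapNatIso (modTensorIso P)) (shortExact_modTensor hf S hS)
  rw [rightExact_iff_leftExact_site P p]
  refine Iff.trans ⟨fun h => preservesFiniteLimits_of_natIso e₂, fun h => preservesFiniteLimits_of_natIso e₂.symm⟩
    ((leftExact_iff_mono_opcycles (termTensor P) hG (p + 1)).trans ?_)
  let Q := cokernel (P.d p (p + 1))
  haveI hQc : PreservesFiniteColimits ((ModSite.tensorBi O).flip.obj Q) := by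
    haveI : PreservesColimitsOfSize.{0, 0} ((ModSite.tensorBi O).flip.obj Q) :=
      preservesColimitsOfSize_shrink.{0, u, 0, u} _
    exact ⟨fun J _ _ => inferInstance⟩
  have key : ∀ S : ShortComplex (ModSite.Mod O),
      Mono (HomologicalComplex.opcyclesMap ((termTensor P).map S.f) (p + 1)) ↔
        Mono (((ModSite.tensorBi O).map S.f).app Q) := fun S =>
    ((MorphismProperty.monomorphisms (ModSite.Mod O)).arrow_mk_iso_iff
      (Arrow.isoMk (termOpcyclesIso P p S.X₁) (termOpcyclesIso P p S.X₂)
        (termOpcyclesIso_naturality P p S.f).symm))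
  constructor
  · intro h
    haveI : ((ModSite.tensorBi O).flip.obj Q).PreservesMonomorphisms :=
      ⟨fun {X Y} f hf => (key (ShortComplex.mk f (cokernel.π f) (cokernel.condition f))).1
        (h _ { exact := ShortComplex.exact_cokernel f })⟩
    refine ⟨?_, hQc⟩
    refine (((ModSite.tensorBi O).flip.obj Q).preservesFiniteLimits_tfae.out 0 3).1 fun S hS => ?_
    haveI := hS.mono_f
    refine ⟨?_, inferInstance⟩
    haveI := hS.epi_g
    have hQ' : ∀ S : ShortComplex (ModSite.Mod O), S.ShortExact →
        (S.map ((ModSite.tensorBi O).flip.obj Q)).Exact ∧ Epi (((ModSite.tensorBi O).flip.obj Q).map S.g) :=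
      (((ModSite.tensorBi O).flip.obj Q).preservesFiniteColimits_tfae.out 3 0).1 hQc
    exact (hQ' S hS).1
  · intro h S hS
    haveI := h.1
    haveI := hS.mono_f
    exact (key S).2 (inferInstanceAs (Mono (((ModSite.tensorBi O).flip.obj Q).map S.f)))

end Groth.Agent.KSix54.Exactness
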